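import Cfsg.Agent.Wr3.Bas

/-! Standard subgroup `Co₃`: the facts used on `Y₀ = Y = Co₃` (port of `Wr3/Def` without `ud`). -/

set_option autoImplicit false
set_option linter.unusedSectionVars false

namespace Cfsg.Agent.C3W

open Cfsg Subgroup Cfsg.Agent.PLocal Cfsg.Agent.PLocal.Amb Cfsg.Agent.Lyons
open Cfsg.Agent.Wr2 (St Tw)
open Cfsg.Agent.Wr3 (Dt MulOn Au K0 O1 Lin Lc Db)
open scoped commutatorElement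

universe v

variable {Y : Type*} [Group Y]

/-- from the class of `u` to the class of `z` -/
def Up (D : Dt Y) : Prop :=
  ∀ θ : Y → Y, MulOn (D.C D.u) θ →
    (∀ x ∈ ⁅D.C D.u, D.C D.u⁆, Tw x → θ x ∈ D.Y₀ ∧ (θ x = 1 → x = 1)) →
      ∃ j ∈ ⁅D.C D.u, D.C D.u⁆, j * j = 1 ∧ D.Cj D.u (D.u * j) ∧ D.Cj D.z (θ j)

/-- the basic facts -/
structure Bs (D : Dt Y) : Prop where
  idx : ∀ a b, a ∉ D.Y₀ → b ∉ D.Y₀ → a * b ∈ D.Y₀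
  aut : ∀ α : MulAut D.Y₀, ∃ y : Y, ∀ a : D.Y₀, (α a : Y) = y * a * y⁻¹
  sim : ∀ N ≤ D.Y₀, D.Y₀ ≤ 𝐍[N] → N = ⊥ ∨ N = D.Y₀
  sylT : IsSyl 2 D.T D.Y₀
  sylU : IsSyl 2 D.U ⊤
  TU : D.T ≤ D.U
  zT : D.z ∈ D.T
  zz : D.z * D.z = 1
  z1 : D.z ≠ 1
  zc : ∀ a ∈ D.T, a * D.z = D.z * a
  cz : ∀ y, (∀ a ∈ D.T, a * y = y * a) → y = 1 ∨ y = D.z
  zn : ∃ a ∈ D.Y₀, a * D.z ≠ D.z * a
  zd : D.z ∈ ⁅D.T, D.T⁆
  uY : D.u ∈ D.Y₀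
  uu : D.u * D.u = 1
  u1 : D.u ≠ 1
  cls : ∀ a ∈ D.Y₀, a * a = 1 → a ≠ 1 → D.Cj D.z a ∨ D.Cj D.u a

/-- all facts except the doubling -/
structure Fx (D : Dt Y) : Prop extends Bs D where
  o1 : O1 D
  kzz : K0 D D.z D.z
  kuz : K0 D D.u D.z
  kuu : K0 D D.u D.u
  up : Up D
  gI : D.C D.z ≤ closure {h | h ∈ ⁅D.C D.z, D.C D.z⁆ ∧ Tw h}
  lin : Lin D
  au : ∀ α, Au (D.C D.z) α → ∃ c ∈ D.C D.z, ∀ x ∈ D.C D.z, α x = c * x * c⁻¹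
  lc : Lc D

/-- `X` has the properties which are used. -/
def Gd (X : Type) [Group X] : Prop :=
  ∃ (Y : Type) (_ : Group Y) (_ : Finite Y) (D : Dt Y), Fx D ∧ Db.{v} D ∧ Nonempty (X ≃* D.Y₀)

variable {G : Type*} [Group G]

/-- The standard subgroup `A`, with `ρ : N(A) → Y` and its inverse `j : Y₀ → A`. -/
structure Sx (D : Dt Y) (A : Subgroup G) (ρ : G → Y) (j : Y → G) : Prop where
  F : Fx D
  st : St A ρ D.Y₀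
  jA : ∀ a ∈ D.Y₀, j a ∈ A
  ρj : ∀ a ∈ D.Y₀, ρ (j a) = a
  inj : ∀ a ∈ A, ρ a = 1 → a = 1
  std : IsStandardSubgroup A

/-- `⟨t⟩` is a Sylow `2`-subgroup of `C(A)` -/
structure Sy (D : Dt Y) (A : Subgroup G) (ρ : G → Y) (j : Y → G) (t : G) : Prop
    extends Sx D A ρ j where
  tK : t ∈ 𝐂[A]
  tt : t * t = 1
  t1 : t ≠ 1
  two : ∀ R ≤ 𝐂[A], IsPGroup 2 R → Nat.card R ≤ 2

/-- The involution `s` interchanging `t` and `t z`. -/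
structure Sz [Finite G] (D : Dt Y) (A : Subgroup G) (ρ : G → Y) (j : Y → G) (t s : G) : Prop
    extends Sy D A ρ j t where
  ss : s * s = 1
  sw : s * t * s⁻¹ = t * j D.z
  sA : ∀ a ∈ A, a * j D.z = j D.z * a → s * a = a * s
  sO : ∀ o ∈ Wr2.Oc A t, s * o = o * s

/-- `A` is the diagonal of `B` and its conjugate by `t`. -/
structure Fn [Finite G] (D : Dt Y) (X A : Subgroup G) (ρ : G → Y) (j : Y → G) (t : G)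
    (B : Subgroup G) (ρ₁ : G → Y) : Prop extends Sy D A ρ j t where
  st₁ : St B ρ₁ D.Y₀
  le : B ≤ X
  com : ∀ a ∈ B, ∀ b ∈ B, a * (t * b * t⁻¹) = t * b * t⁻¹ * a
  dg : ∀ b ∈ B, b * (t * b * t⁻¹) ∈ A ∧ ρ (b * (t * b * t⁻¹)) = ρ₁ b
  cN : ∀ x, x * t = t * x → (x ∈ 𝐍[B] ∧ ρ₁ x = ρ x) ∨ (x * t ∈ 𝐍[B] ∧ ρ₁ (x * t) = ρ x)
  cO : B ≤ 𝐂[Wr2.Oc A t]

end Cfsg.Agent.C3W
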