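import Cfsg.Agent.C3W.Z3
import Cfsg.Agent.WfS.Fin
import Cfsg.Agent.WfS.Perm0

/-! The field `home` of the wreath theorem. -/

set_option autoImplicit false
set_option linter.unusedSectionVars false

namespace Cfsg.Agent.C3W

open Cfsg Subgroup Cfsg.Agent.PLocal Cfsg.Agent.PLocal.Amb Cfsg.Agent.Lyons
open Cfsg.Agent.Wr2 (St Tw Fo Oc Sw')
open Cfsg.Agent.Wr3 (Dt MulOn Au K0 O1 Lin Lc Db)
open scoped commutatorElement

universe v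

variable {G : Type*} [Group G] [Finite G] {Y : Type*} [Group Y] [Finite Y] {D : Dt Y}
  {A : Subgroup G} {ρ : G → Y} {j : Y → G}

namespace Z5

/-- the diagonal map `b ↦ b * (s b s⁻¹)` -/
def χ {B : Subgroup G} {s : G} (c : cj(s, B) ≤ 𝐂[B]) : B →* G :=
  MonoidHom.mk' (fun x => x * (s * x * s⁻¹)) fun a b => by
    simp only [Subgroup.coe_mul]
    rw [mul_assoc (a : G) (s * a * s⁻¹), ← mul_assoc (s * a * s⁻¹),
      ← Wr.mem_C.1 (c (conj_mem_cj s a.2)) b b.2]; group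

theorem χ_app {B : Subgroup G} {s : G} (c : cj(s, B) ≤ 𝐂[B]) (b : B) :
    χ c b = b * (s * b * s⁻¹) := rfl

theorem χ_com {B : Subgroup G} {s : G} (c : cj(s, B) ≤ 𝐂[B]) (ss : s * s = 1) (b : B) :
    χ c b * s = s * χ c b := by
  have e := Wr.mem_C.1 (c (conj_mem_cj s b.2)) b b.2
  have i : s⁻¹ = s := inv_eq_of_mul_eq_one_right ss
  calc χ c b * s = b * (s * b * s⁻¹) * s := rfl
    _ = (s * s) * b * (s⁻¹ * b) := by rw [ss, i]; simp [mul_assoc, ss]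
    _ = s * (s * b * s⁻¹ * b) := by group
    _ = _ := by rw [← e]; rfl

theorem χ_N {B : Subgroup G} {s : G} (c : cj(s, B) ≤ 𝐂[B]) (b : B) : χ c b ∈ 𝐍[B] :=
  mul_mem (le_normalizer b.2) (centralizer_le_normalizer' _ (c (conj_mem_cj s b.2)))

theorem χ_ρ {B : Subgroup G} {s : G} (c : cj(s, B) ≤ 𝐂[B]) {ρ₁ : G → Y} {Y₀ : Subgroup Y}
    (st : St B ρ₁ Y₀) (b : B) : ρ₁ (χ c b) = ρ₁ b := by
  rw [χ_app, st.mul _ (le_normalizer b.2) _ (centralizer_le_normalizer' _ (c (conj_mem_cj s b.2))),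
    st.kerC (c (conj_mem_cj s b.2)), mul_one]

theorem card_le {B P : Subgroup G} {ρ₁ : G → Y} {Y₀ T : Subgroup Y} (st : St B ρ₁ Y₀)
    (hP : P ≤ 𝐍[B]) (hT : ∀ y ∈ T, ∃ x ∈ P, ρ₁ x = y) : Nat.card T ≤ Nat.card P := by
  rw [st.card_img hP]
  exact (card_le_of_le fun y hy => (st.mem_img hP).2 (hT y hy)).trans
    (Nat.le_mul_of_pos_right _ Nat.card_pos)

theorem exists_R {B : Subgroup G} {ρ₁ : G → Y} {Y₀ T : Subgroup Y} (st : St B ρ₁ Y₀)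
    (hT : IsSyl 2 T Y₀) : ∃ R ≤ B, IsPGroup 2 R ∧ (∀ x ∈ R, ρ₁ x ∈ T) ∧
      ∀ y ∈ T, ∃ x ∈ R, ρ₁ x = y := by
  obtain ⟨R, hR⟩ := exists_isSyl 2 B
  obtain ⟨y, hy, e⟩ := hT.exists_cj_eq (st.img_A ▸ st.syl_img hR le_normalizer)
  obtain ⟨a, ha, rfl⟩ := st.sur y hy
  have hR' := hR.cj_of_mem ha
  refine ⟨_, hR'.le, hR'.pgrp, fun x hx => ?_, fun y hy => ?_⟩
  · obtain ⟨x, hx', rfl⟩ := mem_cj_iff_exists.1 hx
    rw [st.conj (le_normalizer ha) (le_normalizer (hR.le hx')), ← e]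
    exact conj_mem_cj _ ((st.mem_img (hR.le.trans le_normalizer)).2 ⟨x, hx', rfl⟩)
  · rw [← e] at hy
    obtain ⟨_, h1, h2⟩ := mem_cj_iff_exists.1 hy
    obtain ⟨x, hx, rfl⟩ := (st.mem_img (hR.le.trans le_normalizer)).1 h1
    exact ⟨_, conj_mem_cj a hx, by rw [st.conj (le_normalizer ha) (le_normalizer (hR.le hx)), h2]⟩

end Z5

open Z5

namespace Fn
variable {X B : Subgroup G} {t : G} {ρ₁ : G → Y} (h : Fn D X A ρ j t B ρ₁)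
include h

theorem c12 : cj(t, B) ≤ 𝐂[B] :=
  cj_le_iff_forall.2 fun b hb => Wr.mem_C.2 fun a ha => h.com a ha b hb
theorem nab : ¬ B ≤ 𝐂[B] := fun e => by
  obtain ⟨a, ha, e1⟩ := h.st₁.sur _ h.F.toBs.zY
  exact h.F.z1 (by rw [← e1, h.st₁.kerC (e ha)])
theorem ne12 : cj(t, B) ≠ B := fun e => h.nab (e.ge.trans h.c12)
/-- copy of `Wr2.Fn.Adec` -/
theorem Adec {a : G} (ha : a ∈ A) : ∃ b ∈ B, b * (t * b * t⁻¹) = a := by
  obtain ⟨b, rfl⟩ := h.st.le_of_sur (B := (χ h.c12).range) (fun y hy => by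
    obtain ⟨b, hb, rfl⟩ := h.st₁.sur y hy
    exact ⟨_, mem_inf.2 ⟨(h.dg b hb).1, ⟨b, hb⟩, rfl⟩, (h.dg b hb).2⟩) ha
  exact ⟨b, b.2, rfl⟩
theorem AB : A ≤ B ⊔ cj(t, B) := fun a ha => by
  obtain ⟨b, hb, rfl⟩ := h.Adec ha
  exact mul_mem (mem_sup_left hb) (mem_sup_right (conj_mem_cj t hb))
/-- `k` centralises `B`, `cj(t, B)`, `A`; `Ktw`; `ne12` -/
theorem k0 {k : G} (hk : k ∈ 𝐂[B]) (k2 : k * k = 1) (e : k * t = t * k) : k = 1 := by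
  have hA : k ∈ 𝐂[A] := Wr.mem_C.2 fun a ha => by
    obtain ⟨b, hb, rfl⟩ := h.Adec ha
    have c : Commute k t := e
    have d : Commute k b := (Wr.mem_C.1 hk b hb).symm
    exact (d.mul_right ((c.mul_right d).mul_right c.inv_right)).symm
  rcases h.toSy.Ktw hA e (Wr2.tw_of_sq k2) with e1 | e1
  · exact e1
  · exact absurd (cj_eq_iff.2 (centralizer_le_normalizer' _ (e1 ▸ hk))) h.ne12
theorem qs {K : Subgroup G} (h1 : K ≤ B) (h2 : B ≤ 𝐍[K]) : K ≤ 𝐂[B] ∨ K = B :=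
  (h.F.toBs.qs h.st₁ h2).imp (fun e => (le_inf le_rfl h1).trans e) fun e => le_antisymm h1 e
/-- `cN` -/
theorem zG1 {x : G} (e : x * t = t * x) : x ∈ WfS.G1 B cj(t, B) := by
  have key : ∀ y, y * t = t * y → y ∈ 𝐍[B] → y ∈ WfS.G1 B cj(t, B) := fun y e1 hy =>
    cj_eq_iff.1 (by rw [cj_sup, ← cj_mul, e1, cj_mul, cj_eq_iff.2 hy])
  have ht : t ∈ WfS.G1 B cj(t, B) := cj_eq_iff.1 (by rw [cj_sup, ← cj_mul, h.tt, cj_one, sup_comm])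
  rcases h.cN x e with e2 | e2
  · exact key x e e2.1
  · exact (mul_mem_cancel_right ht).1 (key _ (by rw [← mul_assoc, e]) e2.1)
/-- the lemma in `WfS/Perm0` (or `Wr2.Fn.perm'`): `G1` permutes the two factors -/
theorem swap {x : G} (hx : x ∈ WfS.G1 B cj(t, B)) (x0 : x ∉ 𝐍[B]) :
    cj(x, B) = cj(t, B) ∧ cj(x, cj(t, B)) = B := by
  have p : ∀ y ∈ WfS.G1 B cj(t, B), cj(y, B) = B ∨ cj(y, B) = cj(t, B) := fun y hy =>
    WfS.perm0 h.tt rfl h.c12 h.st₁.perf (fun e => h.nab (e.le.trans bot_le))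
      (fun K h1 h2 => h.qs h1 h2) hy
  have e1 := (p x hx).resolve_left fun e => x0 (cj_eq_iff.1 e)
  have e2 := p _ (mul_mem hx (h.zG1 rfl))
  rw [cj_mul] at e2
  exact ⟨e1, e2.resolve_right fun e => h.ne12 (cj_inj.1 (e.trans e1.symm))⟩

theorem home_χ {g : G} (c : cj(g * t * g⁻¹, B) ≤ 𝐂[B]) : (χ c).range = cj(g, A) := by
  have ss : g * t * g⁻¹ * (g * t * g⁻¹) = 1 := Wr.conj_sq h.tt
  have pf : ⁅(χ c).range, (χ c).range⁆ = (χ c).range := by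
    rw [MonoidHom.range_eq_map, ← map_commutator, ← _root_.commutator_def, Wr2.comm_top h.st₁.perf]
  have le : (χ c).range ≤ cj(g, A) := by
    have := h.F.toBs.le_of_inv (N := ((cj(g, A)).comap (χ c)).map B.subtype) h.st₁ fun b hb b2 => by
      refine ⟨⟨b, hb⟩, mem_comap.2 (mem_cj.2 ?_), rfl⟩
      have := h.toSy.res' (P := (χ c).range) (y := g⁻¹) (x := χ c ⟨b, hb⟩) (by
        rintro _ ⟨a, rfl⟩
        calc g⁻¹ * χ c a * g⁻¹⁻¹ * t = g⁻¹ * (χ c a * (g * t * g⁻¹)) * g := by group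
          _ = _ := by rw [χ_com c ss]; group) (pf.symm ▸ ⟨_, rfl⟩) (Wr2.tw_of_sq (by
        rw [← map_mul, show (⟨b, hb⟩ : B) * ⟨b, hb⟩ = 1 from Subtype.ext b2, map_one]))
      rwa [inv_inv] at this
    rintro _ ⟨b, rfl⟩
    obtain ⟨b', hb', e⟩ := this b.2
    rw [← Subtype.ext e]
    exact hb'
  refine eq_of_le_of_card_ge le ?_
  rw [card_cj, h.toSy.toSx.card_A]
  refine card_le h.st₁ (by rintro _ ⟨b, rfl⟩; exact χ_N c b) fun y hy => ?_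
  obtain ⟨b, hb, rfl⟩ := h.st₁.sur y hy
  exact ⟨_, ⟨⟨b, hb⟩, rfl⟩, χ_ρ c h.st₁ _⟩

/-- PROOF. `t' = g t g⁻¹` swaps the factors.  `χ b = b * (t' b t'⁻¹)` is a homomorphism `B → C(t')` with perfect
range `A'`.  For an involution `b ∈ B`, `g⁻¹ (χ b) g ∈ A` (`res'`), so `A' ≤ cj(g, A)` (`Bs.le_of_inv`);
`ρ₁ (χ b) = ρ₁ b`, so `card A' ≥ card Y₀ = card A` (`card_A`) and `A' = cj(g, A)`. -/
theorem home_A {g : G} (h1 : g * t * g⁻¹ ∈ WfS.G1 B cj(t, B)) (h2 : g * t * g⁻¹ ∉ 𝐍[B]) (a : G) :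
    a ∈ cj(g, A) ↔ ∃ b ∈ B, a = b * (g * t * g⁻¹ * b * (g * t * g⁻¹)⁻¹) := by
  have c : cj(g * t * g⁻¹, B) ≤ 𝐂[B] := (h.swap h1 h2).1.le.trans h.c12
  rw [← h.home_χ c]
  exact ⟨fun ⟨b, e⟩ => ⟨b, b.2, e.symm⟩, fun ⟨b, hb, e⟩ => ⟨⟨b, hb⟩, e.symm⟩⟩

/-- PROOF. Let `z₁ ∈ B` be the involution with `ρ₁ z₁ = z` (`St.lift2`), `z' = χ z₁`.  `χ` maps the `2`-elements `b ∈ B` with
`ρ₁ b ∈ T` onto a subgroup `P` of `A' = cj(g, A)` with `card T` elements (or: `χ` of a Sylow subgroup of `B` centralising `z₁`) which centralises `z'`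
and `z₁` (`St.com_lift`; `t' b t'⁻¹ ∈ cj(t, B)` centralises `B`).  `cj(g⁻¹, P)` is Sylow in `A`; replace `g` by `g a`,
`a ∈ A`, such that `cj(g⁻¹, P) = pre T`; then `g⁻¹ z' g = j z` (`cz`, `uq`).  `s' = g⁻¹ z₁ g` is an involution
centralising `j T` with `s' t s'⁻¹ = t * j z`.  The same holds for `s = z₁` (case `g = 1`: `dg`, `uq`), which
centralises `O` (`cO`).  `uniq`: `s' = z₁` or `s' = z₁ * j z = t z₁ t⁻¹`. -/
theorem home_z {g : G} (h1 : g * t * g⁻¹ ∈ WfS.G1 B cj(t, B)) (h2 : g * t * g⁻¹ ∉ 𝐍[B]) :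
    ∃ a ∈ A, ∃ z₁ ∈ B, ρ₁ z₁ = D.z ∧
      ((g * a)⁻¹ * z₁ * (g * a) = z₁ ∨ (g * a)⁻¹ * z₁ * (g * a) = t * z₁ * t⁻¹) := by
  have c : cj(g * t * g⁻¹, B) ≤ 𝐂[B] := (h.swap h1 h2).1.le.trans h.c12
  have S := h.toSy.toSx
  have ss : g * t * g⁻¹ * (g * t * g⁻¹) = 1 := Wr.conj_sq h.tt
  obtain ⟨R, RB, R2, RT, TR⟩ := exists_R h.st₁ h.F.sylT
  obtain ⟨z₁, zR, ez⟩ := TR _ h.F.zT
  have zB := RB zR
  have tw : Tw z₁ := isPGroup_iff.1 R2 _ zR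
  have z2 : z₁ * z₁ = 1 := h.st₁.eq_one (mul_mem zB zB) (tw.mul tw rfl) (by
    rw [h.st₁.mul _ (le_normalizer zB) _ (le_normalizer zB), ez, h.F.zz])
  have zc : ∀ b ∈ B, ρ₁ b ∈ D.T → b * z₁ = z₁ * b := fun b hb e =>
    h.st₁.com_lift (le_normalizer hb) zB tw (by rw [ez]; exact h.F.zc _ e)
  let P : Subgroup G := (R.subgroupOf B).map (χ c)
  have P2 : IsPGroup 2 P := (Amb.isPGroup_subgroupOf R2 _).map _
  have PA : cj(g⁻¹, P) ≤ A := by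
    rw [← cj_inv_cj g A, ← h.home_χ c]
    exact cj_mono _ (map_le_range _ _)
  obtain ⟨a, ha, le⟩ := S.sylT.exists_cj_le (isPGroup_cj _ P2) PA
  have eq : cj(a, cj(g⁻¹, P)) = S.pre D.T := by
    refine eq_of_le_of_card_ge le ?_
    rw [card_cj, card_cj, S.card_pre h.F.sylT.le]
    refine card_le h.st₁ (by rintro _ ⟨b, -, rfl⟩; exact χ_N c b) fun y hy => ?_
    obtain ⟨b, hb, rfl⟩ := TR y hy
    exact ⟨_, ⟨⟨b, RB hb⟩, hb, rfl⟩, χ_ρ c h.st₁ _⟩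
  rw [← cj_mul] at eq
  obtain ⟨k, hk⟩ : ∃ k, k = a * g⁻¹ := ⟨_, rfl⟩
  rw [← hk] at eq
  have kt : k * (g * t * g⁻¹) * k⁻¹ = t := by
    rw [hk]
    calc _ = a * t * a⁻¹ := by group
      _ = t := by rw [h.toSy.tA ha]; group
  have cP : ∀ x ∈ P, Commute z₁ x ∧ Commute (χ c ⟨z₁, zB⟩) x := by
    rintro _ ⟨b, hb, rfl⟩
    have c1 := zc b b.2 (RT _ hb)
    refine ⟨(show Commute z₁ b from c1.symm).mul_right
      (Wr.mem_C.1 (c (conj_mem_cj _ b.2)) z₁ zB), ?_⟩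
    exact (show Commute (⟨z₁, zB⟩ : B) b from Subtype.ext c1.symm).map (χ c)
  have cT : ∀ y ∈ D.T, ∀ x, (∀ p ∈ P, Commute x p) → k * x * k⁻¹ * j y = j y * (k * x * k⁻¹) := by
    intro y hy x hx
    obtain ⟨p, hp, e⟩ := mem_cj_iff_exists.1 (eq.ge ((S.j_pre (h.F.sylT.le hy)).2 hy))
    rw [← e]
    calc _ = k * (x * p) * k⁻¹ := by group
      _ = _ := by rw [hx p hp]; group
  have m : k * χ c ⟨z₁, zB⟩ * k⁻¹ ∈ A :=
    (S.mem_pre.1 (eq.le (conj_mem_cj k ⟨⟨z₁, zB⟩, zR, rfl⟩))).1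
  have ej : k * χ c ⟨z₁, zB⟩ * k⁻¹ = j D.z := by
    rcases h.F.cz (ρ (k * χ c ⟨z₁, zB⟩ * k⁻¹)) (fun y hy =>
      ((S.jcom (le_normalizer m) (h.F.sylT.le hy)).1 (cT y hy _ fun p hp => (cP p hp).2)).symm)
      with e | e
    · have := conj_eq_one_iff.1 (h.inj _ m e)
      exact absurd (by rw [← ez, ← h.st₁.one, ← this, χ_ρ c h.st₁]) h.F.z1
    · exact S.uq m S.zA (by rw [e, h.ρj _ h.F.toBs.zY])
  have sw : ∀ s : G, s * s = 1 → z₁ * (s * z₁ * s⁻¹) = s * z₁ * s⁻¹ * z₁ →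
      z₁ * s * z₁⁻¹ = s * (z₁ * (s * z₁ * s⁻¹)) := fun s s2 e => by
    rw [e, inv_eq_of_mul_eq_one_right z2, inv_eq_of_mul_eq_one_right s2]
    calc _ = (s * s) * z₁ * s * z₁ := by rw [s2, one_mul]
      _ = _ := by group
  have e0 : z₁ * (t * z₁ * t⁻¹) = j D.z :=
    S.uq (h.dg _ zB).1 S.zA (by rw [(h.dg _ zB).2, ez, h.ρj _ h.F.toBs.zY])
  have := h.toSy.uniq (s := z₁) (s' := k * z₁ * k⁻¹) z2
    (by rw [sw t h.tt (h.com _ zB _ zB), e0])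
    (fun y hy => by
      obtain ⟨b, hb, e⟩ := h.Adec (h.jA _ (h.F.sylT.le hy))
      have e1 : ρ₁ b = y := by rw [← (h.dg b hb).2, e, h.ρj _ (h.F.sylT.le hy)]
      rw [← e]
      exact (show Commute z₁ b from (zc b hb (e1 ▸ hy)).symm).mul_right (h.com _ zB _ hb))
    (fun o ho => (Wr.mem_C.1 (h.cO zB) o ho).symm) (Wr.conj_sq z2)
    (by
      have e1 := sw _ ss (Wr.mem_C.1 (c (conj_mem_cj _ zB)) z₁ zB)
      rw [← ej, χ_app]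
      calc k * z₁ * k⁻¹ * t * (k * z₁ * k⁻¹)⁻¹
          = k * z₁ * k⁻¹ * (k * (g * t * g⁻¹) * k⁻¹) * (k * z₁ * k⁻¹)⁻¹ := by rw [kt]
        _ = k * (z₁ * (g * t * g⁻¹) * z₁⁻¹) * k⁻¹ := by group
        _ = (k * (g * t * g⁻¹) * k⁻¹) * (k * (z₁ * (g * t * g⁻¹ * z₁ * (g * t * g⁻¹)⁻¹)) * k⁻¹) := by
          rw [e1]; group
        _ = _ := by rw [kt])
    (fun y hy => cT y hy _ fun p hp => (cP p hp).1)
  refine ⟨a⁻¹, inv_mem ha, z₁, zB, ez, ?_⟩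
  rw [show (g * a⁻¹)⁻¹ * z₁ * (g * a⁻¹) = k * z₁ * k⁻¹ by rw [hk]; group]
  refine this.imp id fun e => ?_
  rw [e, ← e0, ← mul_assoc, z2, one_mul]

/-- PROOF. `N = cj((g a)⁻¹, B ⊔ cj(t, B))` contains `A` (`home_A`) and `z₁` or `t z₁ t⁻¹`.  `A` induces on `B` all inner
automorphisms (`dg`, `com`), so `N ⊓ B` is normalised by `B`; if `z₁ ∈ N`, `B ≤ N` (`Bs.qs`, `ρ₁ z₁ ≠ 1`), and then
`cj(t, B) ≤ N` by `dg`.  Symmetric in the other case.  Orders: `N = B ⊔ cj(t, B)`; `AB`. -/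
theorem home {g : G} (h1 : g * t * g⁻¹ ∈ WfS.G1 B cj(t, B)) (h2 : g * t * g⁻¹ ∉ 𝐍[B]) :
    g ∈ WfS.G1 B cj(t, B) := by
  obtain ⟨a, ha, z₁, zB, ez, e⟩ := h.home_z h1 h2
  obtain ⟨N, hN⟩ : ∃ N, N = cj((g * a)⁻¹, B ⊔ cj(t, B)) := ⟨_, rfl⟩
  have AN : A ≤ N := fun x hx => by
    obtain ⟨b, hb, e1⟩ := (h.home_A h1 h2 _).1
      (conj_mem_cj g (mul_mem (mul_mem ha hx) (inv_mem ha)))
    rw [hN, mem_cj, show (g * a)⁻¹⁻¹ * x * (g * a)⁻¹ = g * (a * x * a⁻¹) * g⁻¹ by group, e1]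
    exact mul_mem (mem_sup_left hb) (mem_sup_right ((h.swap h1 h2).1.le (conj_mem_cj _ hb)))
  have m : (g * a)⁻¹ * z₁ * (g * a) ∈ N := by
    have := conj_mem_cj (g * a)⁻¹ (mem_sup_left (T := cj(t, B)) zB)
    rwa [inv_inv, ← hN] at this
  have zN : z₁ ∈ N := by
    rcases e with e | e
    · exact e ▸ m
    · exact (mul_mem_cancel_right (e ▸ m)).1 (AN (h.dg _ zB).1)
  have BN : B ≤ N := by
    rcases h.qs (K := N ⊓ B) inf_le_right (fun b hb => mem_normalizer_of_cj_le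
      (cj_le_iff_forall.2 fun x hx => by
        have x2 := (mem_inf.1 hx).2
        refine mem_inf.2 ⟨?_, mul_mem (mul_mem hb x2) (inv_mem hb)⟩
        have d := AN (h.dg b hb).1
        have := mul_mem (mul_mem d (mem_inf.1 hx).1) (inv_mem d)
        rwa [show b * (t * b * t⁻¹) * x * (b * (t * b * t⁻¹))⁻¹
          = b * (t * b * t⁻¹ * x) * (b * (t * b * t⁻¹))⁻¹ by group, ← h.com x x2 b hb,
          show b * (x * (t * b * t⁻¹)) * (b * (t * b * t⁻¹))⁻¹ = b * x * b⁻¹ by group] at this))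
      with e1 | e1
    · exact absurd (by rw [← ez, h.st₁.kerC (e1 (mem_inf.2 ⟨zN, zB⟩))]) h.F.z1
    · exact e1.ge.trans inf_le_left
  have eq : B ⊔ cj(t, B) = N := eq_of_le_of_card_ge (sup_le BN (cj_le_iff_forall.2 fun b hb =>
    (mul_mem_cancel_left (BN hb)).1 (AN (h.dg b hb).1))) (by rw [hN, card_cj])
  have k : (g * a)⁻¹ ∈ WfS.G1 B cj(t, B) := cj_eq_iff.1 (hN.symm.trans eq.symm)
  exact (mul_mem_cancel_right (le_normalizer (h.AB ha))).1 (inv_mem_iff.1 k)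

end Fn

end Cfsg.Agent.C3W
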