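import Cfsg.Agent.C3W.Bas
import Cfsg.Agent.WfS.Fin

/-! The field `loc` of the wreath theorem. -/

set_option autoImplicit false
set_option linter.unusedSectionVars false

namespace Cfsg.Agent.C3W

open Cfsg Subgroup Cfsg.Agent.PLocal Cfsg.Agent.PLocal.Amb Cfsg.Agent.Lyons
open Cfsg.Agent.Wr2 (St Tw Fo Oc Sw')
open Cfsg.Agent.Wr3 (Dt MulOn Au K0 O1 Lin Lc Db)
open scoped commutatorElement

universe v

variable {G : Type*} [Group G] [Finite G] {Y : Type*} [Group Y] [Finite Y] {D : Dt Y}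
  {A : Subgroup G} {ρ : G → Y} {j : Y → G}

/-- conjugation in `Y` -/
theorem St_cjY {B : Subgroup G} {ρ₁ : G → Y} (F : Bs D) (st : St B ρ₁ D.Y₀) (y : Y) :
    St B (fun x => y * ρ₁ x * y⁻¹) D.Y₀ := by
  have := F.nrm
  refine ⟨fun a ha b hb => by rw [st.mul a ha b hb]; group, fun m hm => by rw [conj_eq_one_iff, st.ker m hm],
    fun a ha => this.conj_mem _ (st.mem a ha) y, fun c hc => ?_, fun a ha e => st.odd a ha (conj_eq_one_iff.1 e), st.perf⟩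
  obtain ⟨a, ha, e⟩ := st.sur _ (this.conj_mem' _ hc y)
  exact ⟨a, ha, by rw [e]; group⟩

/-- PROOF. `ρ₁` is injective on `P ⊓ B` (`St.uq`), with image `T`; `Zt (P ⊓ B) = {1, z₁}`, `ρ₁ z₁ = z` (`zc`, `cz`).
`c1`: `ρ₁ x ∈ {1, z}` by `cz`.  `c2`: `zd`.  `zf`: `⁅F, P ⊓ B⁆ ≤ F ⊓ (P ⊓ B)` is normal in `P ⊓ B`; trivial or meets the
centre.  `h4`: the elements of `P ⊓ B` with image in `W`.  `gr`: if `img P ≤ Y₀` then `img P = T` (`UY`), so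
`P = (P ⊓ B) ⊔ (P ⊓ C(B))`.  Otherwise `img P = U` (`idx`, `UY`); `α (ρ₁ p) = ρ₁ (g p g⁻¹)` is well defined
(kernel `P ⊓ C(B)`), an `Au U`; `chT`.  `zc`: trivial.  `mu`: second alternative, the elements of `P ⊓ B` with image in `K`. -/
theorem loc_aux {B P : Subgroup G} {ρ₁ : G → Y} (F : Bs D) (L : Lc D) (st : St B ρ₁ D.Y₀)
    (P2 : IsPGroup 2 P) (hP : P ≤ 𝐍[B]) (h1 : ∀ x ∈ P, ρ₁ x ∈ D.U)
    (h2 : ∀ a ∈ D.T, ∃ x ∈ P ⊓ B, ρ₁ x = a) : WfS.Loc B P := by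
  have RN : ∀ {x}, x ∈ P ⊓ B → x ∈ 𝐍[B] := fun hx => hP hx.1
  have mT : ∀ x ∈ P ⊓ B, ρ₁ x ∈ D.T := fun x hx => F.UY (h1 x hx.1) (st.mem x hx.2)
  have uq : ∀ x ∈ P ⊓ B, ∀ y ∈ P ⊓ B, ρ₁ x = ρ₁ y → x = y := fun x hx y hy =>
    st.uq hx.2 hy.2 (isPGroup_iff.1 P2 x hx.1) (isPGroup_iff.1 P2 y hy.1)
  have cR : ∀ p ∈ P, ∀ x ∈ P ⊓ B, p * x * p⁻¹ ∈ P ⊓ B := fun p hp x hx =>
    ⟨P.mul_mem (P.mul_mem hp hx.1) (P.inv_mem hp), conj_mem_of_mem_normalizer (hP hp) hx.2⟩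
  obtain ⟨z₁, zR, ez⟩ := h2 _ F.zT
  have cz : ∀ x ∈ P, x ∈ 𝐂[P ⊓ B] → ρ₁ x = 1 ∨ ρ₁ x = D.z := fun x hx hc => F.cz _ fun a ha => by
    obtain ⟨r, hr, rfl⟩ := h2 a ha
    exact st.com (RN hr) (hP hx) (hc r hr)
  have zZ : z₁ ∈ WfS.Zt (P ⊓ B) := ⟨zR, fun r hr => uq _ (mul_mem hr zR) _ (mul_mem zR hr) (by
    rw [st.mul _ (RN hr) _ (RN zR), st.mul _ (RN zR) _ (RN hr), ez, F.zc _ (mT r hr)])⟩
  have Z2 : ∀ x ∈ WfS.Zt (P ⊓ B), x = 1 ∨ x = z₁ := fun x hx => (cz x hx.1.1 hx.2).imp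
    (fun e => uq _ hx.1 _ (one_mem _) (e.trans st.one.symm)) fun e => uq _ hx.1 _ zR (e.trans ez.symm)
  have Zle : ∀ K : Subgroup G, z₁ ∈ K → WfS.Zt (P ⊓ B) ≤ K := fun K hK x hx => by
    rcases Z2 x hx with rfl | rfl
    exacts [one_mem _, hK]
  have cle : ⁅P ⊓ B, P ⊓ B⁆ ≤ P ⊓ B := commutator_le_self _
  have cm : ∀ x ∈ P ⊓ B, ρ₁ x ∈ ⁅D.T, D.T⁆ → x ∈ ⁅P ⊓ B, P ⊓ B⁆ := fun x hx h => by
    have k : ⁅D.T, D.T⁆ ≤ st.img ⁅P ⊓ B, P ⊓ B⁆ := commutator_le.2 fun a ha b hb => by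
      obtain ⟨r, hr, rfl⟩ := h2 a ha
      obtain ⟨s, hs, rfl⟩ := h2 b hb
      exact (st.mem_img fun _ h => RN (cle h)).2 ⟨_, commutator_mem_commutator hr hs,
        map_commutatorElement st.hom ⟨r, RN hr⟩ ⟨s, RN hs⟩⟩
    obtain ⟨y, hy, e⟩ := (st.mem_img fun _ h => RN (cle h)).1 (k h)
    exact uq _ (cle hy) _ hx e ▸ hy
  have pre : ∀ W : Subgroup Y, D.U ≤ 𝐍[W] → ∃ A : Subgroup G, (∀ x, x ∈ A ↔ x ∈ P ⊓ B ∧ ρ₁ x ∈ W) ∧ P ≤ 𝐍[A] :=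
    fun W hW => by
      have m : ∀ x, x ∈ P ⊓ B ⊓ (W.comap st.hom).map 𝐍[B].subtype ↔ x ∈ P ⊓ B ∧ ρ₁ x ∈ W := fun x =>
        and_congr_right fun hx => ⟨by rintro ⟨y, hy, rfl⟩; exact hy, fun h => ⟨⟨x, RN hx⟩, h, rfl⟩⟩
      refine ⟨_, m, fun p hp => mem_normalizer_of_cj_le (cj_le_iff_forall.2 fun x hx => (m _).2 ?_)⟩
      obtain ⟨a, b⟩ := (m x).1 hx
      exact ⟨cR p hp x a, st.conj (hP hp) (RN a) ▸ conj_mem_of_mem_normalizer (hW (h1 p hp)) b⟩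
  refine ⟨fun x hx hc => ?_, Zle _ (cm _ zR (ez ▸ F.zd)), fun K hK hn => or_iff_not_imp_left.2 fun h => Zle K ?_, ?_,
    fun _ _ g g1 g2 _ => cj_le_iff_forall.2 fun r hr => ?_, fun a ha b hb a1 b1 => ⟨1, one_mem _, ?_⟩, .inr ?_⟩
  · rcases cz x hx hc with e | e
    · exact ⟨1, one_mem _, by rw [mul_one]; exact (st.ker x (hP hx)).1 e⟩
    · exact ⟨z₁, zZ, (st.ker _ (mul_mem (hP hx) (RN zR))).1 (by rw [st.mul _ (hP hx) _ (RN zR), e, ez, F.zz])⟩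
  · have ne : K ⊓ (P ⊓ B) ≠ ⊥ := fun e => h fun f hf r hr => by
      have : f * r * f⁻¹ * r⁻¹ ∈ K ⊓ (P ⊓ B) := mem_inf.2 ⟨by
        rw [mul_assoc, mul_assoc, ← mul_assoc r]
        exact mul_mem hf (conj_mem_of_mem_normalizer (hn hr) (inv_mem hf)), mul_mem (cR f (hK hf) r hr) (inv_mem hr)⟩
      rw [e, mem_bot, mul_inv_eq_one, mul_inv_eq_iff_eq_mul] at this
      exact this.symm
    obtain ⟨x, hx, x1⟩ := (bot_or_exists_ne_one _).resolve_left (inf_centralizer_ne_bot (T := P ⊓ B) (P2.to_le inf_le_left)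
      (V := K ⊓ (P ⊓ B)) (P2.to_le (inf_le_right.trans inf_le_left))
      (fun r hr => mem_normalizer_of_cj_le (cj_le_iff_forall.2 fun x hx =>
        ⟨conj_mem_of_mem_normalizer (hn hr) hx.1, cR r hr.1 x hx.2⟩)) ne)
    exact (Z2 x ⟨hx.1.2, hx.2⟩).resolve_left x1 ▸ hx.1.1
  · obtain ⟨W, w1, w2, w3, w4⟩ := L.h4
    obtain ⟨A, m, n⟩ := pre W w3
    refine ⟨A, fun x hx => ((m x).1 hx).1, fun x hx => ?_, n, w4.trans_le (Nat.card_le_card_of_surjective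
      (fun x : A => (⟨ρ₁ x, ((m x).1 x.2).2⟩ : W)) fun w => ?_)⟩
    · obtain ⟨a, b⟩ := (m x).1 hx
      exact uq _ (mul_mem a a) _ (one_mem _) (by rw [st.mul _ (RN a) _ (RN a), w2 _ b, st.one])
    · obtain ⟨x, hx, e⟩ := h2 w (w1 w.2)
      exact ⟨⟨x, (m x).2 ⟨hx, e ▸ w.2⟩⟩, Subtype.ext e⟩
  · have gP : ∀ p ∈ P, g * p * g⁻¹ ∈ P := fun p hp => conj_mem_of_mem_normalizer g1 hp
    suffices k : ρ₁ (g * r * g⁻¹) ∈ D.T by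
      obtain ⟨s, hs, e⟩ := h2 _ k
      rw [← mul_inv_cancel_left s (g * r * g⁻¹)]
      exact mul_mem (mem_sup_left hs) (mem_sup_right ⟨P.mul_mem (P.inv_mem hs.1) (gP r hr.1),
        st.div (RN hs) (hP (gP r hr.1)) e⟩)
    by_cases c : ∀ p ∈ P, ρ₁ p ∈ D.Y₀
    · exact F.UY (h1 _ (gP r hr.1)) (c _ (gP r hr.1))
    push Not at c
    obtain ⟨p₀, hp, p1⟩ := c
    have ex : ∀ u ∈ D.U, ∃ p ∈ P, ρ₁ p = u := fun u hu => by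
      by_cases c : u ∈ D.Y₀
      · obtain ⟨x, hx, e⟩ := h2 u (F.UY hu c)
        exact ⟨x, hx.1, e⟩
      · obtain ⟨x, hx, e⟩ := h2 _ (F.UY (mul_mem hu (h1 _ hp)) (F.idx _ _ c p1))
        exact ⟨_, mul_mem hx.1 (inv_mem hp), by
          rw [st.mul _ (RN hx) _ (hP (inv_mem hp)), e, st.inv (hP hp), mul_inv_cancel_right]⟩
    choose! s sP se using ex
    have wd : ∀ p ∈ P, ρ₁ (g * s (ρ₁ p) * g⁻¹) = ρ₁ (g * p * g⁻¹) := fun p hp => by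
      have a := sP _ (h1 p hp)
      have b := st.kerC (conj_mem_of_mem_normalizer g2 (x := (s (ρ₁ p))⁻¹ * p)
        ⟨P.mul_mem (P.inv_mem a) hp, st.div (hP a) (hP hp) (se _ (h1 p hp))⟩).2
      rwa [← conj_mul, ← conj_inv, st.mul _ (hP (inv_mem (gP _ a))) _ (hP (gP _ hp)), st.inv (hP (gP _ a)),
        inv_mul_eq_one] at b
    rw [← wd r hr.1]
    refine L.chT (fun u => ρ₁ (g * s u * g⁻¹)) ⟨fun a ha b hb => ?_, fun a ha => h1 _ (gP _ (sP a ha)), fun a ha e => ?_⟩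
      _ (mT r hr)
    · have := wd _ (mul_mem (sP a ha) (sP b hb))
      rw [st.mul _ (hP (sP a ha)) _ (hP (sP b hb)), se a ha, se b hb, ← conj_mul,
        st.mul _ (hP (gP _ (sP a ha))) _ (hP (gP _ (sP b hb)))] at this
      exact this
    · have := (conj_mem_of_mem_normalizer (inv_mem g2) (x := g * s a * g⁻¹)
        ⟨gP _ (sP a ha), (st.ker _ (hP (gP _ (sP a ha)))).1 e⟩).2
      rw [show g⁻¹ * (g * s a * g⁻¹) * g⁻¹⁻¹ = s a by group] at this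
      rw [← se a ha, st.kerC this]
  · rw [(Z2 a ha).resolve_left a1, (Z2 b hb).resolve_left b1, one_mul, inv_one, mul_one]
  · obtain ⟨K, k1, k2, k3, k4⟩ := L.mu
    obtain ⟨A, m, n⟩ := pre K k3
    have c : ∀ a ∈ P ⊓ 𝐂[A], ρ₁ a ∈ D.U ⊓ 𝐂[K] := fun a ha => ⟨h1 a ha.1, fun k hk => by
      obtain ⟨x, hx, rfl⟩ := h2 k (commutator_le_self _ (k2 hk))
      exact st.com (RN hx) (hP ha.1) (ha.2 x ((m x).2 ⟨hx, hk⟩))⟩
    refine ⟨A, Zle A ((m _).2 ⟨zR, ez ▸ k1⟩), fun x hx => cm x ((m x).1 hx).1 (k2 ((m x).1 hx).2), n,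
      commutator_le.2 fun a ha b hb => (st.ker _ (commutator_le_self _
        (commutator_mem_commutator (hP ha.1) (hP hb.1)))).1 ?_⟩
    exact (map_commutatorElement st.hom ⟨a, hP ha.1⟩ ⟨b, hP hb.1⟩).trans
      (commutatorElement_eq_one_iff_mul_comm.2 (k4 _ (c a ha) _ (c b hb)))

/-- PROOF. `img P` is conjugate into `U` by `y ∈ Y` (`sylU`); `img (P ⊓ B)` is Sylow in `Y₀` (`St.syl_img`,
`img_A`), so its conjugate is `U ⊓ Y₀ = T`; `St_cjY`, `loc_aux`. -/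
theorem loc {B : Subgroup G} {ρ₁ : G → Y} (F : Bs D) (L : Lc D) (st : St B ρ₁ D.Y₀)
    (P : Subgroup G) (P2 : IsPGroup 2 P) (hP : P ≤ 𝐍[B]) (hS : IsSyl 2 (P ⊓ B) B) :
    WfS.Loc B P := by
  have := F.nrm
  obtain ⟨y, -, hy⟩ := F.sylU.exists_cj_le (st.pg_img P2) le_top
  have k : ∀ x ∈ P, y * ρ₁ x * y⁻¹ ∈ D.U := fun x hx => hy (conj_mem_cj y ((st.mem_img hP).2 ⟨x, hx, rfl⟩))
  have RN : P ⊓ B ≤ 𝐍[B] := inf_le_left.trans hP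
  have s := (st.syl_img hS le_normalizer).cj y
  rw [st.img_A, cj_of_normal y D.Y₀] at s
  refine loc_aux F L (St_cjY F st y) P2 hP k fun a ha => ?_
  obtain ⟨_, h1, rfl⟩ := mem_cj_iff_exists.1 (s.max _ F.sylT.pgrp (cj_le_iff_forall.2 fun b hb => by
    obtain ⟨x, hx, rfl⟩ := (st.mem_img RN).1 hb
    exact F.UY (k x hx.1) (this.conj_mem _ (st.mem x hx.2) y)) F.sylT.le ha)
  obtain ⟨x, hx, rfl⟩ := (st.mem_img RN).1 h1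
  exact ⟨x, hx, rfl⟩

end Cfsg.Agent.C3W
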