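import Cfsg.Agent.C3W.Z1
import Cfsg.Agent.C3W.Z4
import Cfsg.Agent.C3W.Z5
import Cfsg.Agent.C3W.Z6
import Cfsg.Agent.PLocal.FStarP

/-! The main theorem. -/

set_option autoImplicit false

namespace Cfsg.Agent.C3W

open Cfsg Subgroup Cfsg.Agent.Grp Cfsg.Agent.PLocal Cfsg.Agent.PLocal.Amb Cfsg.Agent.Lyons
open Cfsg.Agent.Wr3 (Dt Db)

universe v

theorem main {G : Type v} [Group G] [Finite G] {Y : Type*} [Group Y] [Finite Y] {D : Dt Y}
    {X A : Subgroup G} {ρ : G → Y} {j : Y → G} [X.Normal] [IsSimpleGroup X] (hC : 𝐂[X] = ⊥)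
    (hA : A ≤ X) (h : Sx D A ρ j) (hD : Db.{v} D) : False := by
  obtain ⟨g, s, hf⟩ := h.exists_fo hA hC
  obtain ⟨t, y, h1, hy⟩ := h.exists_y hf
  obtain ⟨y, hy, c⟩ := h1.exists_yH hy
  obtain ⟨s, h2⟩ := h1.exists_Sz hy c
  obtain ⟨B, ρ₁, h3⟩ := h2.exists_Fn hD hA
  exact WfS.Wf.false (L := B) (M := cj(t, B)) (t := t) ⟨h1.tt, rfl, h3.c12, h3.st₁.perf,
    fun e => h3.nab (e ▸ bot_le), fun K => h3.qs, fun k => h3.k0, fun g => h3.home,
    loc h.F.toBs h.F.lc h3.st₁⟩ X h3.le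

theorem aux {G : Type v} [Group G] [Finite G] (hF : IsSimpleGroup (generalizedFittingSubgroup G))
    (hF' : ¬ IsMulCommutative (generalizedFittingSubgroup G)) {L : Subgroup G}
    (hL : IsStandardSubgroup L) {X : Type} [Group X] (h : Gd.{v} X) (e : L ≃* X) : False := by
  classical
  obtain ⟨Y, _, _, D, F, hD, ⟨f⟩⟩ := h
  have q := qs_of_simple hF hF'
  have bot : ∀ N : Subgroup G, N.Normal → ¬ generalizedFittingSubgroup G ≤ N →
      N ⊓ generalizedFittingSubgroup G = ⊥ := fun N _ h =>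
    subgroupOf_eq_bot.1 ((hF.eq_bot_or_eq_top_of_normal (N.subgroupOf _) inferInstance).resolve_right
      fun e => h (subgroupOf_eq_top.1 e)) |>.eq_bot
  have hC : 𝐂[generalizedFittingSubgroup G] = ⊥ := (inf_eq_left.2 (centralizer_fstar_le G)).symm.trans
    (bot _ inferInstance (qsS_not_le_centralizer q))
  have hO : oddCore G = ⊥ := by
    rw [eq_bot_iff, ← hC, ← commutator_eq_bot_iff_le_centralizer, eq_bot_iff,
      ← bot (oddCore G) inferInstance fun h => not_dvd_card_pPrimeCore 2 G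
        ((two_dvd_card_of_perfect (qsS_commutator q) (qsS_ne_bot q)).trans (card_dvd_of_le h))]
    exact commutator_le_inf _ _
  let χ : L →* Y := D.Y₀.subtype.comp (e.trans f).toMonoidHom
  let ψ : G → Y := fun a => if h : a ∈ L then χ ⟨a, h⟩ else 1
  have hψ : ∀ a (h : a ∈ L), ψ a = χ ⟨a, h⟩ := fun a h => dif_pos h
  have m : ∀ a ∈ L, ∀ b ∈ L, ψ (a * b) = ψ a * ψ b := fun a ha b hb => by
    rw [hψ _ (mul_mem ha hb), hψ a ha, hψ b hb, ← map_mul]; rfl
  have k : ∀ a ∈ L, ψ a = 1 → a = 1 := fun a ha h => congrArg Subtype.val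
    ((e.trans f).map_eq_one_iff.1 (Subtype.ext ((hψ a ha).symm.trans h)) : (⟨a, ha⟩ : L) = 1)
  obtain ⟨ρ, st, uq⟩ := F.toBs.exists_St (A := L) (ψ := ψ) m
    (fun a ha => by rw [hψ a ha]; exact Subtype.prop _)
    (fun y hy => by
      obtain ⟨a, ha⟩ := (e.trans f).surjective ⟨y, hy⟩
      exact ⟨a, a.2, (hψ _ a.2).trans (congrArg Subtype.val ha)⟩)
    (fun a ha h => by rw [k a ha h]; exact ⟨one_mem _, by simp⟩) (qsS_commutator hL.1)
  have e1 : ∀ a ∈ L, ρ a = ψ a := fun a ha => uq a (le_normalizer ha) _ fun b hb => by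
    rw [hψ _ (mul_mem (mul_mem ha hb) (inv_mem ha)), hψ a ha, hψ b hb, ← map_inv, ← map_mul,
      ← map_mul]; rfl
  choose! j hj using st.sur
  exact main hC ((pLayer_eq_layer_of_pPrimeCore_eq_bot hO ▸ Std.le_pLayer hL).trans layer_le_fstar)
    ⟨F, st, fun a ha => (hj a ha).1, fun a ha => (hj a ha).2, fun a ha h => k a ha (e1 a ha ▸ h), hL⟩
    hD

end Cfsg.Agent.C3W
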