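import Cfsg.Agent.C3W.Bas

/-! The Sylow `2`-subgroups of `K = C(A)` have order `2`. -/

set_option autoImplicit false
set_option linter.unusedSectionVars false

namespace Cfsg.Agent.C3W

open Cfsg Subgroup Cfsg.Agent.PLocal Cfsg.Agent.PLocal.Amb Cfsg.Agent.Lyons
open Cfsg.Agent.Wr2 (St Tw Fo Oc Sw' ord2 cj1 clt card_zp mem_zp tw_of_sq)
open Cfsg.Agent.Wr (mem_z mem_C conj_eq_iff conj_sq conj_comm)
open Cfsg.Agent.Wr3 (Dt MulOn Au K0 O1 Lin Lc Db)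
open scoped commutatorElement

universe v

variable {G : Type*} [Group G] [Finite G] {Y : Type*} [Group Y] [Finite Y] {D : Dt Y}
  {A : Subgroup G} {ρ : G → Y} {j : Y → G}

namespace Sx
variable (h : Sx D A ρ j)
include h

/-- copy of `Wr2.Sx.exists_fo` with `j z` for `ψ (e 1)` -/
theorem exists_fo {X : Subgroup G} [X.Normal] [IsSimpleGroup X] (hA : A ≤ X) (hC : 𝐂[X] = ⊥) :
    ∃ g s, Fo A g s := by
  by_contra hn
  obtain ⟨t, ht, t1, tt⟩ := RankOne.exists_invol_of_even h.std.2.1.1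
  have hX : ∀ N : Subgroup G, N.Normal → t ∈ N → X ≤ N := fun N hN htN => by
    rcases (inferInstance : (N.subgroupOf X).Normal).eq_bot_or_eq_top with e | e
    · refine absurd ?_ t1
      rw [← mem_bot, ← hC, mem_C]
      intro x hx
      have h3 : (⟨x * t * x⁻¹ * t⁻¹, by
          simpa [mul_assoc] using X.mul_mem hx (Normal.conj_mem ‹_› _ (X.inv_mem hx) t)⟩ : X) ∈
          N.subgroupOf X := mul_mem (hN.conj_mem t htN x) (inv_mem htN)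
      rw [e, mem_bot] at h3
      exact conj_eq_iff.1 (mul_inv_eq_one.1 (congrArg Subtype.val h3))
    · exact subgroupOf_eq_top.1 e
  have zK : j D.z ∉ 𝐂[A] := fun e => h.z1 (h.AK h.zA e)
  rcases S1911.result 𝐂[A] h.std.2.1 (fun g hg => by
    rw [← Nat.not_even_iff_odd]
    intro he
    obtain ⟨s, hs, s1, s2⟩ := RankOne.exists_invol_of_even he
    rw [← h.std.2.2.2] at hg hs
    exact hn ⟨g, s, hg, (mem_inf.1 hs).2, s2, s1, mem_cj.1 (mem_inf.1 hs).1⟩) with e | e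
  · exact zK (hX _ e ht (hA h.zA))
  · have m1 : t ∈ normalClosure (𝐂[A] : Set G) := subset_normalClosure ht
    obtain ⟨k, hk, e1⟩ := Inv.SE.exists_conj_mem e (s := ⟨t, m1⟩)
      (t := ⟨_, hX _ inferInstance m1 (hA h.zA)⟩) (le_normalizer ht)
      (by rw [mem_subgroupOf, ← h.std.2.2.2]; exact le_normalizer h.zA)
      (by rw [← orderOf_coe]; exact ord2 tt t1) (by rw [← orderOf_coe]; exact ord2 h.zz h.z1)
    have e2 : (k : G) * t * (k : G)⁻¹ = j D.z := congrArg Subtype.val e1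
    exact zK (e2 ▸ conj_mem_of_mem_normalizer (g := (k : G)) hk ht)

/-- PROOF (as `Wr2.Sx.inner`). Let `σ = ρ s ∉ Y₀`, take `x, j₀` from `o1`.  `j x * s * (j x)⁻¹ = s * j j₀`
(the element `j x * s * (j x)⁻¹ * s⁻¹`... lies in `A`, use `uq`).  For `c ∈ C σ`, `j c` commutes with `s`
(`jcom`), so `g⁻¹ (j c) g ∈ N(A)` (`cM'`); by closure induction `g⁻¹ (j j₀) g ∈ N(A)` with
`ρ (g⁻¹ (j j₀) g) ∈ Y₀` (`Bs.sq`).  If `g⁻¹ (j x) g ∈ N(A)` then `g⁻¹ (j j₀) g ∈ K` and `(g, j j₀)` is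
foreign and inner.  Otherwise `(g⁻¹ (j x) g, g⁻¹ (s * j j₀) g)` is foreign and inner. -/
theorem inner {g s : G} (hf : Fo A g s) : ∃ g s, Fo A g s ∧ ρ s ∈ D.Y₀ := by
  by_cases hs : ρ s ∈ D.Y₀
  · exact ⟨g, s, hf, hs⟩
  obtain ⟨g1, s1, s2, s3, s4⟩ := hf
  obtain ⟨x, hx, j₀, hj, j2, j1, e1⟩ := h.F.o1 _ hs (h.st.sq s1 s2)
  have r3 : j₀ ∈ D.Y₀ ∧ g⁻¹ * j j₀ * g ∈ 𝐍[A] ∧ ρ (g⁻¹ * j j₀ * g) ∈ D.Y₀ := by
    clear j2 j1 e1
    induction hj using closure_induction with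
    | mem c hc =>
      obtain ⟨c, hc, rfl⟩ := hc
      have n := h.cM' s4 s2 s3 ((h.jcom s1 hc.1).2 (mem_z.1 hc.2).symm).symm
      have e : g⁻¹ * j (c * c) * g = g⁻¹ * j c * g * (g⁻¹ * j c * g) := by
        rw [h.jmul hc.1 hc.1]; group
      refine ⟨mul_mem hc.1 hc.1, e ▸ mul_mem n n, ?_⟩
      rw [e, h.st.mul _ n _ n]
      exact h.F.toBs.sq _
    | one =>
      rw [h.jone, mul_one, inv_mul_cancel, h.st.one]
      exact ⟨one_mem _, one_mem _, one_mem _⟩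
    | mul a b _ _ ha hb =>
      have e : g⁻¹ * j (a * b) * g = g⁻¹ * j a * g * (g⁻¹ * j b * g) := by
        rw [h.jmul ha.1 hb.1]; group
      refine ⟨mul_mem ha.1 hb.1, e ▸ mul_mem ha.2.1 hb.2.1, ?_⟩
      rw [e, h.st.mul _ ha.2.1 _ hb.2.1]
      exact mul_mem ha.2.2 hb.2.2
    | inv a _ ha =>
      have e : g⁻¹ * j a⁻¹ * g = (g⁻¹ * j a * g)⁻¹ := by rw [h.jinv ha.1]; group
      refine ⟨inv_mem ha.1, e ▸ inv_mem ha.2.1, ?_⟩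
      rw [e, h.st.inv ha.2.1]
      exact inv_mem ha.2.2
  obtain ⟨jY, r3, r4⟩ := r3
  have xA := h.jA x hx
  have xN := h.jN hx
  have r2 : j x * s * (j x)⁻¹ = s * j j₀ := by
    have m : s⁻¹ * j x * s⁻¹⁻¹ * (j x)⁻¹ ∈ A :=
      mul_mem (conj_mem_of_mem_normalizer (inv_mem s1) xA) (inv_mem xA)
    have e := h.uq m (h.jA _ jY) (by
      rw [h.st.mul _ (mul_mem (mul_mem (inv_mem s1) xN) (inv_mem (inv_mem s1))) _ (inv_mem xN),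
        h.st.conj (inv_mem s1) xN, h.st.inv s1, h.st.inv xN, h.ρj _ hx, h.ρj _ jY]
      calc (ρ s)⁻¹ * x * (ρ s)⁻¹⁻¹ * x⁻¹ = (ρ s)⁻¹ * (x * ρ s * x⁻¹) := by group
        _ = j₀ := by rw [e1]; group)
    rw [← e]; group
  by_cases ha : g⁻¹ * j x * g ∈ 𝐍[A]
  · refine ⟨g, j j₀, ⟨g1, h.jN jY, ?_, ?_, ?_⟩, h.st.mem _ (h.jA _ jY)⟩
    · rw [← h.jmul jY jY, j2, h.jone]
    · exact fun e => j1 (h.jinj jY (one_mem _) (by rw [e, h.jone]))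
    · have := mul_mem (inv_mem s4)
        (conj_mem_of_mem_normalizer (normalizer_le_normalizer_centralizer A ha) s4)
      rwa [show (g⁻¹ * s * g)⁻¹ * (g⁻¹ * j x * g * (g⁻¹ * s * g) * (g⁻¹ * j x * g)⁻¹) =
        g⁻¹ * (s⁻¹ * (j x * s * (j x)⁻¹)) * g by group, r2, inv_mul_cancel_left] at this
  · have n := centralizer_le_normalizer' A s4
    have e3 : g⁻¹ * j x * g * (g⁻¹ * s * g) * (g⁻¹ * j x * g)⁻¹ =
        g⁻¹ * s * g * (g⁻¹ * j j₀ * g) := by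
      calc _ = g⁻¹ * (j x * s * (j x)⁻¹) * g := by group
        _ = _ := by rw [r2]; group
    refine ⟨_, g⁻¹ * j x * g * (g⁻¹ * s * g) * (g⁻¹ * j x * g)⁻¹, ⟨ha,
      e3 ▸ mul_mem n r3, conj_sq (by simpa using conj_sq (g := g⁻¹) s2),
      fun e => s3 (cj1 (conj_eq_one_iff.1 e)),
      by simpa [mul_assoc] using s4⟩, ?_⟩
    rw [e3, h.st.mul _ n _ r3, h.st.kerC s4, one_mul]
    exact r4

theorem nf_aux {g s : G} (hf : Fo A g s) {c : Y} (hc : c ∈ D.Y₀) (e : D.Cj c (ρ s)) :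
    ∃ g k, k ∈ 𝐂[A] ∧ k * k = 1 ∧ Fo A g (j c * k) := by
  obtain ⟨y, hy, e⟩ := e
  obtain ⟨a, ha, k, hk, -, k2, e1, rfl⟩ := h.st.dec2 hf.2.1
    (e ▸ mul_mem (mul_mem hy hc) (inv_mem hy)) hf.2.2.1
  have yN := h.jN hy
  have e2 : j y * j c * (j y)⁻¹ = a := by rw [h.jconj yN hc, h.ρj _ hy, e, ← e1, h.jρ ha]
  have e3 : (j y)⁻¹ * (a * k) * (j y)⁻¹⁻¹ = j c * k := by
    rw [← e2, mul_assoc _ _ k, mem_C.1 hk _ (inv_mem (h.jA _ hy))]; group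
  exact ⟨_, k, hk, k2, e3 ▸ hf.conj (inv_mem yN)⟩

theorem RN {g k : G} {R : Subgroup G} {a : Y} (ha : a ∈ D.Y₀) (hf : Fo A g (j a * k)) (R1 : R ≤ 𝐂[A])
    (R4 : ∀ x ∈ R, x * k = k * x) : ∀ x ∈ R, g⁻¹ * x * g ∈ 𝐍[A] := fun x hx =>
  h.cM' hf.2.2.2.2 hf.2.2.1 hf.2.2.2.1 (by
    rw [← mul_assoc, ← mem_C.1 (R1 hx) _ (h.jA _ ha), mul_assoc, R4 x hx, mul_assoc])

/-- normal form: `St.dec2`, `ti` (`ρ s ≠ 1`), `cls`, `Fo.conj` by an element of `A` -/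
theorem fo_nf {g s : G} (hf : Fo A g s) (hs : ρ s ∈ D.Y₀) :
    ∃ g k, ∃ a, (a = D.z ∨ a = D.u) ∧ k ∈ 𝐂[A] ∧ k * k = 1 ∧ Fo A g (j a * k) := by
  have r1 : ρ s ≠ 1 := fun e =>
    hf.2.2.2.1 (h.ti hf.1 ((h.st.ker _ hf.2.1).1 e) hf.2.2.2.2 (tw_of_sq hf.2.2.1))
  rcases h.F.cls _ hs (h.st.sq hf.2.1 hf.2.2.1) r1 with e | e
  · obtain ⟨g, k, hk⟩ := h.nf_aux hf h.F.toBs.zY e
    exact ⟨g, k, _, Or.inl rfl, hk⟩
  · obtain ⟨g, k, hk⟩ := h.nf_aux hf h.F.uY e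
    exact ⟨g, k, _, Or.inr rfl, hk⟩

/-- PROOF. `s = j a * k`.  `R₀` = Sylow of `K` containing `k` (order `> 2` by `h4`), `R = R₀ ⊓ C(k)` has order `> 2`
(if `k = 1` it is `R₀`, otherwise `lt_inf_normalizer` for `⟨k⟩`, see the end of `Wr2.Sx.two`).
`R` and `A ⊓ C(j a)` centralise `s`, so `cj(g⁻¹, ·)` of them lie in `N(A)` (`cM'`); `cj(g⁻¹, R) ⊓ K = 1` (`ti`), so
`R' = st.img cj(g⁻¹, R)` has order `> 2`; `R' ⊓ Y₀ ≠ 1` (`idx`) is normal in `R'`, so contains an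
involution `b` of `Z(R')`, `b = ρ (g⁻¹ r g)`, `r ∈ R`, `r * r = 1`. By `cls` and replacing `g` by `g c`,
`c ∈ A`, `b = z` or `b = u`. -/
theorem two_R (h4 : ∃ R ≤ 𝐂[A], IsPGroup 2 R ∧ 2 < Nat.card R) {g k : G} {a : Y} (ha : a ∈ D.Y₀)
    (hk : k ∈ 𝐂[A]) (k2 : k * k = 1) (hf : Fo A g (j a * k)) :
    ∃ g r, ∃ R : Subgroup G, Fo A g (j a * k) ∧ R ≤ 𝐂[A] ∧ IsPGroup 2 R ∧ 2 < Nat.card R ∧
      (∀ x ∈ R, x * k = k * x) ∧ r ∈ R ∧ r * r = 1 ∧ r ≠ 1 ∧ (∀ x ∈ R, x * r = r * x) ∧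
      (ρ (g⁻¹ * r * g) = D.z ∨ ρ (g⁻¹ * r * g) = D.u) := by
  obtain ⟨R, R1, R2, R3, R4⟩ : ∃ R ≤ 𝐂[A], IsPGroup 2 R ∧ 2 < Nat.card R ∧ ∀ x ∈ R, x * k = k * x := by
    obtain ⟨R, hR, R2, R3⟩ := h4
    by_cases k1 : k = 1
    · exact ⟨R, hR, R2, R3, fun x _ => by rw [k1, mul_one, one_mul]⟩
    obtain ⟨P, hP, h1⟩ := exists_isSyl_ge (isPGroup_zpowers (tw_of_sq k2)) (zpowers_le.2 hk)
    have h2 := hP.card_le R2 hR
    have h5 := lt_inf_normalizer hP.pgrp (lt_of_le_of_ne h1 fun e => by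
      rw [← e, card_zp k2 k1] at h2; omega)
    have h6 := clt h5
    rw [card_zp k2 k1] at h6
    exact ⟨_, inf_le_left.trans hP.le, hP.pgrp.to_le inf_le_left, h6, fun x hx =>
      conj_eq_iff.1 ((mem_zp k2 (conj_mem_of_mem_normalizer (mem_inf.1 hx).2
        (mem_zpowers k))).resolve_left fun e => k1 (conj_eq_one_iff.1 e))⟩
  have n : ∀ x ∈ R, g⁻¹ * x * g ∈ 𝐍[A] := h.RN ha hf R1 R4
  have hm : ∀ x ∈ R, ∀ y ∈ R, ρ (g⁻¹ * (x * y) * g) = ρ (g⁻¹ * x * g) * ρ (g⁻¹ * y * g) :=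
    fun x hx y hy => by rw [← h.st.mul _ (n x hx) _ (n y hy)]; congr 1; group
  have hi : ∀ x ∈ R, ρ (g⁻¹ * x⁻¹ * g) = (ρ (g⁻¹ * x * g))⁻¹ :=
    fun x hx => by rw [← h.st.inv (n x hx)]; congr 1; group
  let N : Subgroup G :=
    { carrier := {x | x ∈ R ∧ ρ (g⁻¹ * x * g) ∈ D.Y₀}
      one_mem' := ⟨one_mem _, by rw [mul_one, inv_mul_cancel, h.st.one]; exact one_mem _⟩
      mul_mem' := fun {x y} hx hy => ⟨mul_mem hx.1 hy.1, by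
        rw [hm x hx.1 y hy.1]; exact mul_mem hx.2 hy.2⟩
      inv_mem' := fun {x} hx => ⟨inv_mem hx.1, by rw [hi x hx.1]; exact inv_mem hx.2⟩ }
  have NR : N ≤ R := fun x hx => hx.1
  have RN : R ≤ 𝐍[N] := fun x hx => mem_normalizer_of_cj_le (cj_le_iff_forall.2 fun y hy =>
    ⟨mul_mem (mul_mem hx hy.1) (inv_mem hx), by
      rw [hm _ (mul_mem hx hy.1) _ (inv_mem hx), hm _ hx _ hy.1, hi _ hx]
      exact h.F.toBs.nrm.conj_mem _ hy.2 _⟩)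
  have N1 : N ≠ ⊥ := by
    intro h6
    have := Fintype.ofFinite R
    obtain ⟨a, b, c, ab, ac, bc⟩ := Fintype.two_lt_card_iff.1 (Nat.card_eq_fintype_card (α := R) ▸ R3)
    have i : ∀ a b : R, a ≠ b → (ρ (g⁻¹ * a * g) ∈ D.Y₀ ↔ ρ (g⁻¹ * b * g) ∉ D.Y₀) := fun a b ab => by
      have : ρ (g⁻¹ * ((a : G)⁻¹ * b) * g) ∉ D.Y₀ := fun e => by
        have m : (a : G)⁻¹ * b ∈ N := ⟨mul_mem (inv_mem a.2) b.2, e⟩
        rw [h6, mem_bot] at m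
        exact ab (Subtype.ext (inv_mul_eq_one.1 m))
      rw [hm _ (inv_mem a.2) _ b.2, h.F.toBs.mul_iff, hi _ a.2, inv_mem_iff] at this
      tauto
    have := i a b ab
    have := i a c ac
    have := i b c bc
    tauto
  obtain ⟨⟨u, hu⟩, u1⟩ := ne_bot_iff_exists_ne_one.1 (inf_centralizer_ne_bot R2 (R2.to_le NR) RN N1)
  obtain ⟨m, m1, m2⟩ := Tw.inv_pow (isPGroup_iff.1 R2 u hu.1.1) fun e => u1 (Subtype.ext e)
  have hr := pow_mem hu m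
  generalize u ^ m = r at m1 m2 hr
  have b1 : ρ (g⁻¹ * r * g) ≠ 1 := fun e =>
    m2 (h.ti hf.1 (R1 hr.1.1) ((h.st.ker _ (n r hr.1.1)).1 e) (tw_of_sq m1))
  have b2 : ρ (g⁻¹ * r * g) * ρ (g⁻¹ * r * g) = 1 := by
    rw [← hm _ hr.1.1 _ hr.1.1, m1, mul_one, inv_mul_cancel, h.st.one]
  have key : ∀ c, D.Cj c (ρ (g⁻¹ * r * g)) → ∃ g, Fo A g (j a * k) ∧ ρ (g⁻¹ * r * g) = c := by
    rintro c ⟨y, hy, e⟩
    have yN := h.jN hy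
    refine ⟨g * j y, ⟨fun e => hf.1 ((mul_mem_cancel_right yN).1 e), hf.2.1, hf.2.2.1, hf.2.2.2.1, ?_⟩, ?_⟩
    · have := conj_mem_of_mem_normalizer (normalizer_le_normalizer_centralizer A (inv_mem yN)) hf.2.2.2.2
      simpa [mul_assoc] using this
    · rw [show (g * j y)⁻¹ * r * (g * j y) = (j y)⁻¹ * (g⁻¹ * r * g) * (j y)⁻¹⁻¹ by group,
        h.st.conj (inv_mem yN) (n r hr.1.1), h.st.inv yN, h.ρj _ hy, ← e]
      group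
  have c := mem_C.1 hr.2
  rcases h.F.cls _ hr.1.2 b2 b1 with e | e
  · obtain ⟨g, h1, h2⟩ := key _ e
    exact ⟨g, r, R, h1, R1, R2, R3, R4, hr.1.1, m1, m2, c, Or.inl h2⟩
  · obtain ⟨g, h1, h2⟩ := key _ e
    exact ⟨g, r, R, h1, R1, R2, R3, R4, hr.1.1, m1, m2, c, Or.inr h2⟩

/-- PROOF. Apply `K0` to `R' = st.img cj(g⁻¹, R)` and `θ x = ρ (g⁻¹ * j x * g)`.  If `θ y = 1`, `y` an
involution, then `g⁻¹ (j y) g ∈ K`, so `C(j y) ≤ N(cj(g, K))` (`cM'`).  So `A ≤ N(cj(g, K))`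
(`pre_closure`), and there is such a `y` (`Y₀ ≠ ⊥`).  `Bs.qs`, `AK` give `A ≤ cj(g, K)`, against `nc`. -/
theorem two_K {g k r : G} {R : Subgroup G} {a : Y} (ha : a ∈ D.Y₀) (hk : k ∈ 𝐂[A])
    (hf : Fo A g (j a * k)) (R1 : R ≤ 𝐂[A]) (R2 : IsPGroup 2 R) (R3 : 2 < Nat.card R)
    (R4 : ∀ x ∈ R, x * k = k * x) (r1 : r ∈ R) (r2 : ∀ x ∈ R, x * r = r * x) :
    ¬ K0 D a (ρ (g⁻¹ * r * g)) := by
  intro h0
  have n : ∀ x ∈ R, g⁻¹ * x * g ∈ 𝐍[A] := h.RN ha hf R1 R4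
  have hR : cj(g⁻¹, R) ≤ 𝐍[A] := cj_le_iff_forall.2 fun x hx => by simpa using n x hx
  have n' : ∀ x ∈ D.C a, g⁻¹ * j x * g ∈ 𝐍[A] := fun x hx =>
    h.cM' hf.2.2.2.2 hf.2.2.1 hf.2.2.2.1 (by
      rw [← mul_assoc, ← h.jmul hx.1 ha, mem_z.1 hx.2, h.jmul ha hx.1, mul_assoc,
        mem_C.1 hk _ (h.jA _ hx.1), mul_assoc])
  have im : ∀ y ∈ h.st.img cj(g⁻¹, R), ∃ x ∈ R, ρ (g⁻¹ * x * g) = y := fun y hy => by
    obtain ⟨x, hx, rfl⟩ := (h.st.mem_img hR).1 hy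
    obtain ⟨x, hx', rfl⟩ := mem_cj_iff_exists.1 hx
    exact ⟨x, hx', by rw [inv_inv]⟩
  have com : ∀ x y : G, g⁻¹ * x * g ∈ 𝐍[A] → g⁻¹ * y * g ∈ 𝐍[A] → x * y = y * x →
      ρ (g⁻¹ * x * g) * ρ (g⁻¹ * y * g) = ρ (g⁻¹ * y * g) * ρ (g⁻¹ * x * g) := fun x y hx hy e =>
    h.st.com hx hy (by simpa using conj_comm (g := g⁻¹) e)
  have h1 := h0 (h.st.img cj(g⁻¹, R)) (h.st.pg_img (isPGroup_cj _ R2)) (fun y hy => by
      obtain ⟨x, hx, rfl⟩ := im y hy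
      exact mem_z.2 (com _ _ (n x hx) (n r r1) (r2 x hx)))
    ((h.st.mem_img hR).2 ⟨_, by simpa using conj_mem_cj g⁻¹ r1, rfl⟩) (by
      rwa [← h.st.card_img' hR fun x hx hx' => h.ti (fun e => hf.1 (inv_mem_iff.1 e)) hx'
        (R1 (mem_cj.1 hx)) (isPGroup_iff.1 (isPGroup_cj _ R2) x hx), card_cj])
    (fun x => ρ (g⁻¹ * j x * g)) (fun x hx y hy => by
      show ρ _ = ρ _ * ρ _
      rw [← h.st.mul _ (n' x hx) _ (n' y hy), h.jmul hx.1 hy.1]; congr 1; group)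
    (fun x hx => mem_C.2 fun y hy => by
      obtain ⟨y, hy', rfl⟩ := im y hy
      exact com _ _ (n y hy') (n' x hx) (mem_C.1 (R1 hy') _ (h.jA _ hx.1)).symm)
  have h2 : ∀ y ∈ D.C a, y * y = 1 → ρ (g⁻¹ * j y * g) = 1 → y ≠ 1 →
      j y * j y = 1 ∧ j y ≠ 1 ∧ g⁻¹ * j y * g ∈ 𝐂[A] := fun y hy y2 e y1 =>
    ⟨by rw [← h.jmul hy.1 hy.1, y2, h.jone],
      fun e => y1 (h.jinj hy.1 (one_mem _) (by rw [e, h.jone])), (h.st.ker _ (n' y hy)).1 e⟩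
  have h3 : A ≤ 𝐍[cj(g, 𝐂[A])] := fun x hx => by
    rw [← h.jρ hx]
    refine h.pre_closure (fun x hx => ⟨hx.1, ?_⟩) (h1 (h.st.mem x hx))
    obtain ⟨hx, y, hy, y2, y1, e, c⟩ := hx
    obtain ⟨b1, b2, b3⟩ := h2 y hy y2 e y1
    rw [normalizer_cj, mem_cj]
    exact normalizer_le_normalizer_centralizer A (h.cM' b3 b1 b2 (by
      rw [← h.jmul hx hy.1, c, h.jmul hy.1 hx]))
  rcases h.F.toBs.qs h.st h3 with e | e
  · refine h.F.z1 (mem_bot.1 ((h1.trans ((closure_le _).2 ?_)) h.F.toBs.zY))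
    rintro x ⟨-, y, hy, y2, y1, e', -⟩
    obtain ⟨-, b2, b3⟩ := h2 y hy y2 e' y1
    exact absurd (h.AK (h.jA _ hy.1) (e ⟨mem_cj.2 b3, h.jA _ hy.1⟩)) b2
  · exact h.nc hf.1 e

/-- PROOF. Otherwise: an inner foreign involution with `a = u` is impossible (`two_R`, `two_K`, `kuz`, `kuu`); more
generally (conjugating, as in `fo_nf`) one with `ρ s = u`.  With `a = z`: `two_R` gives `b = z`
(`kzz`), or `b = u`, and then `Fo A g⁻¹ (g⁻¹ * r * g)` has `ρ = u`. -/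
theorem two {g s : G} (hf : Fo A g s) (hs : ρ s ∈ D.Y₀) {R : Subgroup G} (hR : R ≤ 𝐂[A])
    (R2 : IsPGroup 2 R) : Nat.card R ≤ 2 := by
  by_contra h3
  have h4 : ∃ R ≤ 𝐂[A], IsPGroup 2 R ∧ 2 < Nat.card R := ⟨R, hR, R2, not_le.1 h3⟩
  have key : ∀ g k, k ∈ 𝐂[A] → k * k = 1 → ¬ Fo A g (j D.u * k) := fun g k hk k2 hf => by
    obtain ⟨g, r, R, hf, R1, R2, R3, R4, r1, -, -, r2, e⟩ := h.two_R h4 h.F.uY hk k2 hf
    have := h.two_K h.F.uY hk hf R1 R2 R3 R4 r1 r2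
    rcases e with e | e <;> rw [e] at this
    exacts [this h.F.kuz, this h.F.kuu]
  obtain ⟨g, k, a, rfl | rfl, hk, k2, hf⟩ := h.fo_nf hf hs
  swap
  · exact key g k hk k2 hf
  obtain ⟨g, r, R, hf, R1, R2, R3, R4, r1, r3, r4, r2, e | e⟩ := h.two_R h4 h.F.toBs.zY hk k2 hf
  · exact h.two_K h.F.toBs.zY hk hf R1 R2 R3 R4 r1 r2 (e ▸ h.F.kzz)
  · have hf' : Fo A g⁻¹ (g⁻¹ * r * g) := ⟨fun e => hf.1 (inv_mem_iff.1 e),
      h.RN h.F.toBs.zY hf R1 R4 r r1, by simpa using conj_sq (g := g⁻¹) r3, fun e => r4 (cj1 e),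
      by simpa [mul_assoc] using R1 r1⟩
    obtain ⟨g, k, hk, k2, hf⟩ := h.nf_aux hf' h.F.uY (e ▸ Dt.Cj.refl D _)
    exact key g k hk k2 hf

end Sx

end Cfsg.Agent.C3W
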